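import Mathlib

/-!
The limit of a subgroup of a finite ring under two-sided multiplication by polynomial units:
the group of top coefficients. It is at least as large as the subgroup.
-/

set_option autoImplicit false

namespace CfsgLib.QuadOff

open Polynomial

variable {R : Type*} [Ring R]

/-- All coefficients lie in `S`. -/
def CoeffsIn (S : AddSubgroup R) (v : R[X]) : Prop := ∀ i, v.coeff i ∈ S

theorem CoeffsIn.mul_X_pow {S : AddSubgroup R} {v : R[X]} (h : CoeffsIn S v) (k : ℕ) :
    CoeffsIn S (v * X ^ k) := fun i => by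
  rw [coeff_mul_X_pow']
  split
  · exact h _
  · exact zero_mem _

theorem CoeffsIn.monomial {S : AddSubgroup R} {x : R} (hx : x ∈ S) (k : ℕ) :
    CoeffsIn S (Polynomial.monomial k x) := fun i => by
  rw [coeff_monomial]
  split
  · exact hx
  · exact zero_mem _

/-- The top coefficients of `U S[t] U'`. -/
noncomputable def top (S : AddSubgroup R) (U U' : R[X]) : AddSubgroup R where
  carrier := {x | ∃ (n : ℕ) (v : R[X]), CoeffsIn S v ∧ (U * v * U').natDegree ≤ n ∧
    (U * v * U').coeff n = x}
  zero_mem' := ⟨0, 0, fun i => by simp, by simp, by simp⟩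
  add_mem' := by
    rintro x y ⟨n, v, hv, hvn, hvx⟩ ⟨m, w, hw, hwm, hwy⟩
    have key : ∀ (u : R[X]) (i j : ℕ), (U * u * U').natDegree ≤ i →
        (U * (u * X ^ j) * U').natDegree ≤ i + j ∧
          (U * (u * X ^ j) * U').coeff (i + j) = (U * u * U').coeff i := by
      intro u i j hi
      have e : U * (u * X ^ j) * U' = U * u * U' * X ^ j := by
        simp only [mul_assoc, (commute_X_pow U' j).eq]
      refine ⟨?_, by rw [e, coeff_mul_X_pow]⟩
      rw [e]
      exact (natDegree_mul_le.trans (add_le_add hi (natDegree_X_pow_le j)))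
    obtain ⟨a1, a2⟩ := key v n m hvn
    obtain ⟨b1, b2⟩ := key w m n hwm
    rw [add_comm m n] at b1 b2
    refine ⟨n + m, v * X ^ m + w * X ^ n, fun i => ?_, ?_, ?_⟩
    · rw [coeff_add]
      exact add_mem (hv.mul_X_pow m i) (hw.mul_X_pow n i)
    · rw [mul_add, add_mul]
      exact (natDegree_add_le _ _).trans (max_le a1 b1)
    · rw [mul_add, add_mul, coeff_add, a2, b2, hvx, hwy]
  neg_mem' := by
    rintro x ⟨n, v, hv, hvn, hvx⟩
    refine ⟨n, -v, fun i => by rw [coeff_neg]; exact neg_mem (hv i), ?_, ?_⟩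
    · rwa [mul_neg, neg_mul, natDegree_neg]
    · rw [mul_neg, neg_mul, coeff_neg, hvx]

theorem mem_top {S : AddSubgroup R} {U U' : R[X]} {x : R} :
    x ∈ top S U U' ↔ ∃ (n : ℕ) (v : R[X]), CoeffsIn S v ∧ (U * v * U').natDegree ≤ n ∧
      (U * v * U').coeff n = x := Iff.rfl

theorem top_mono {S T : AddSubgroup R} (h : S ≤ T) (U U' : R[X]) : top S U U' ≤ top T U U' := by
  rintro x ⟨n, v, hv, h1, h2⟩
  exact ⟨n, v, fun i => h (hv i), h1, h2⟩

/-- If the images of monomials have coefficients in `T`, then so do the top coefficients. -/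
theorem top_le {S T : AddSubgroup R} {U U' : R[X]}
    (h : ∀ x ∈ S, CoeffsIn T (U * C x * U')) : top S U U' ≤ T := by
  rintro x ⟨n, v, hv, -, rfl⟩
  rw [as_sum_range v, Finset.mul_sum, Finset.sum_mul, finsetSum_coeff]
  refine sum_mem fun i _ => ?_
  have e : U * Polynomial.monomial i (v.coeff i) * U' = U * C (v.coeff i) * U' * X ^ i := by
    rw [← C_mul_X_pow_eq_monomial]
    simp only [mul_assoc, (commute_X_pow U' i).eq]
  rw [e]
  exact (h _ (hv i)).mul_X_pow i n

/-- A product of top coefficients vanishes if the products in `S`, `T` vanish. -/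
theorem top_mul_top {S T : AddSubgroup R} (h : ∀ x ∈ S, ∀ y ∈ T, x * y = 0) {U U' V' : R[X]}
    (hU : U' * U = 1) {x y : R} (hx : x ∈ top S U U') (hy : y ∈ top T U V') : x * y = 0 := by
  obtain ⟨n, v, hv, hvn, rfl⟩ := hx
  obtain ⟨m, w, hw, hwm, rfl⟩ := hy
  have hvw : v * w = 0 := by
    ext i
    rw [coeff_mul, coeff_zero]
    exact Finset.sum_eq_zero fun q _ => h _ (hv _) _ (hw _)
  have e : (U * v * U') * (U * w * V') = 0 := by
    rw [show U * v * U' * (U * w * V') = U * v * (U' * U) * w * V' by simp only [mul_assoc], hU,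
      mul_one, mul_assoc U v w, hvw, mul_zero, zero_mul]
  rw [← coeff_mul_add_eq_of_natDegree_le hvn hwm, e, coeff_zero]

section Count

variable [Finite R] (S : AddSubgroup R) (U U' : R[X])

/-- Coefficient vectors of `U S[t] U'` in degree `≤ n`. -/
noncomputable def bounded (n : ℕ) : AddSubgroup (Fin (n + 1) → R) where
  carrier := {f | ∃ v : R[X], CoeffsIn S v ∧ (U * v * U').natDegree ≤ n ∧
    ∀ i : Fin (n + 1), (U * v * U').coeff i = f i}
  zero_mem' := ⟨0, fun i => by simp, by simp, fun i => by simp⟩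
  add_mem' := by
    rintro f g ⟨v, hv, hvn, hvf⟩ ⟨w, hw, hwn, hwg⟩
    refine ⟨v + w, fun i => by rw [coeff_add]; exact add_mem (hv i) (hw i), ?_, fun i => ?_⟩
    · rw [mul_add, add_mul]
      exact (natDegree_add_le _ _).trans (max_le hvn hwn)
    · rw [mul_add, add_mul, coeff_add, hvf, hwg]
      rfl
  neg_mem' := by
    rintro f ⟨v, hv, hvn, hvf⟩
    refine ⟨-v, fun i => by rw [coeff_neg]; exact neg_mem (hv i), ?_, fun i => ?_⟩
    · rwa [mul_neg, neg_mul, natDegree_neg]
    · rw [mul_neg, neg_mul, coeff_neg, hvf]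
      rfl

theorem card_bounded_le : ∀ n, Nat.card (bounded S U U' n) ≤ Nat.card (top S U U') ^ (n + 1) := by
  intro n
  induction n with
  | zero =>
    refine le_of_le_of_eq ?_ (pow_one _).symm
    refine Nat.card_le_card_of_injective (fun f => ⟨f.1 0, ?_⟩) ?_
    · obtain ⟨v, hv, hvn, hvf⟩ := f.2
      exact ⟨0, v, hv, hvn, hvf 0⟩
    · intro f g h
      refine Subtype.ext (funext fun i => ?_)
      obtain rfl : i = 0 := Fin.ext (by have := i.2; omega)
      exact congrArg Subtype.val h
  | succ n ih =>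
    let last : ↥(bounded S U U' (n + 1)) →+ ↥(top S U U') :=
      { toFun := fun f => ⟨f.1 (Fin.last (n + 1)), by
          obtain ⟨v, hv, hvn, hvf⟩ := f.2
          exact ⟨n + 1, v, hv, hvn, by simpa using hvf (Fin.last (n + 1))⟩⟩
        map_zero' := rfl
        map_add' := fun f g => rfl }
    have hk : Nat.card last.ker ≤ Nat.card (bounded S U U' n) := by
      refine Nat.card_le_card_of_injective (fun f => ⟨fun i => f.1.1 i.castSucc, ?_⟩) ?_
      · obtain ⟨v, hv, hvn, hvf⟩ := f.1.2
        refine ⟨v, hv, ?_, fun i => by simpa using hvf i.castSucc⟩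
        have h0 : (U * v * U').coeff (n + 1) = 0 := by
          have h1 := hvf (Fin.last (n + 1))
          rw [Fin.val_last] at h1
          rw [h1]
          exact congrArg Subtype.val (f.2 : last f.1 = 0)
        exact natDegree_le_iff_coeff_eq_zero.mpr fun j hj => by
          rcases Nat.lt_or_ge (n + 1) j with hj' | hj'
          · exact coeff_eq_zero_of_natDegree_lt (lt_of_le_of_lt hvn hj')
          · rwa [show j = n + 1 by omega]
      · intro f g h
        refine Subtype.ext (Subtype.ext (funext fun i => ?_))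
        induction i using Fin.lastCases with
        | last =>
          exact (congrArg Subtype.val (f.2 : last f.1 = 0)).trans
            (congrArg Subtype.val (g.2 : last g.1 = 0)).symm
        | cast i => exact congrFun (congrArg Subtype.val h) i
    calc Nat.card (bounded S U U' (n + 1))
        = Nat.card last.range * Nat.card last.ker := by
          rw [AddSubgroup.card_eq_card_quotient_mul_card_addSubgroup last.ker,
            Nat.card_congr (QuotientAddGroup.quotientKerEquivRange last).toEquiv]
      _ ≤ Nat.card (top S U U') * Nat.card (top S U U') ^ (n + 1) :=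
          Nat.mul_le_mul (Nat.card_le_card_of_injective _ Subtype.coe_injective) (hk.trans ih)
      _ = _ := by rw [pow_succ' _ (n + 1)]

theorem pow_card_le_bounded {d e : ℕ} (hU : U.natDegree ≤ d) (hU' : U'.natDegree ≤ e) {V V' : R[X]}
    (hV : V * U = 1) (hV' : U' * V' = 1) (n : ℕ) :
    Nat.card S ^ (n + 1) ≤ Nat.card (bounded S U U' (d + n + e)) := by
  classical
  let P : (Fin (n + 1) → S) → R[X] := fun f =>
    ∑ i : Fin (n + 1), Polynomial.monomial (i : ℕ) (f i : R)
  have hPc : ∀ f, CoeffsIn S (P f) := fun f j => by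
    rw [finsetSum_coeff]
    exact sum_mem fun i _ => CoeffsIn.monomial (f i).2 _ j
  have hPd : ∀ f, (U * P f * U').natDegree ≤ d + n + e := fun f => by
    refine natDegree_mul_le.trans (add_le_add (natDegree_mul_le.trans (add_le_add hU ?_)) hU')
    refine natDegree_sum_le_of_forall_le _ _ fun i _ => (natDegree_monomial_le _).trans ?_
    exact Nat.le_of_lt_succ i.2
  rw [show Nat.card S ^ (n + 1) = Nat.card (Fin (n + 1) → S) by
    rw [Nat.card_fun, Nat.card_fin]]
  refine Nat.card_le_card_of_injective
    (fun f => ⟨fun i => (U * P f * U').coeff i, P f, hPc f, hPd f, fun _ => rfl⟩) ?_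
  intro f g h
  have h1 : U * P f * U' = U * P g * U' := by
    refine Polynomial.ext fun j => ?_
    rcases Nat.lt_or_ge (d + n + e) j with hj | hj
    · rw [coeff_eq_zero_of_natDegree_lt (lt_of_le_of_lt (hPd f) hj),
        coeff_eq_zero_of_natDegree_lt (lt_of_le_of_lt (hPd g) hj)]
    · exact congrFun (congrArg Subtype.val h) ⟨j, Nat.lt_succ_of_le hj⟩
  have h2 : P f = P g := by
    have h3 := congrArg (fun q => V * q * V') h1
    simp only [mul_assoc, hV'] at h3
    simp only [← mul_assoc, hV, one_mul, mul_one] at h3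
    exact h3
  funext k
  have h4 := congrArg (fun q : R[X] => q.coeff k) h2
  simp only [P, finsetSum_coeff, coeff_monomial] at h4
  simpa [Fin.val_inj] using h4

/-- The group of top coefficients is at least as large. -/
theorem card_le_card_top {V V' : R[X]} (hV : V * U = 1) (hV' : U' * V' = 1) :
    Nat.card S ≤ Nat.card (top S U U') := by
  by_contra hlt
  rw [not_le] at hlt
  set m := Nat.card (top S U U') with hm
  have hm0 : 0 < m := Nat.card_pos
  set k := U.natDegree + U'.natDegree with hk
  -- Bernoulli: `(m + 1)^(n+1) ≥ (n + 1) m^n`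
  set n := m ^ (k + 1) with hn
  have h1 : Nat.card S ^ (n + 1) ≤ m ^ (U.natDegree + n + U'.natDegree + 1) :=
    (pow_card_le_bounded S U U' le_rfl le_rfl hV hV' n).trans (card_bounded_le S U U' _)
  have h2 : (n + 1) * m ^ n ≤ (m + 1) ^ (n + 1) := by
    have : ∀ j : ℕ, (j + 1) * m ^ j ≤ (m + 1) ^ (j + 1) := by
      intro j
      induction j with
      | zero => simp
      | succ j ih =>
        have e : m ^ (j + 1) ≤ (m + 1) ^ (j + 1) := Nat.pow_le_pow_left (Nat.le_succ m) _
        calc (j + 1 + 1) * m ^ (j + 1) = m * ((j + 1) * m ^ j) + m ^ (j + 1) := by ring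
          _ ≤ m * (m + 1) ^ (j + 1) + (m + 1) ^ (j + 1) := add_le_add (Nat.mul_le_mul_left _ ih) e
          _ = (m + 1) ^ (j + 1 + 1) := by ring
    exact this n
  have h3 : (m + 1) ^ (n + 1) ≤ Nat.card S ^ (n + 1) := Nat.pow_le_pow_left hlt _
  have h4 : (n + 1) * m ^ n ≤ m ^ (k + 1) * m ^ n := by
    refine (h2.trans (h3.trans h1)).trans (le_of_eq ?_)
    rw [← pow_add]
    congr 1
    omega
  have h5 := Nat.le_of_mul_le_mul_right h4 (pow_pos hm0 n)
  omega

end Count

end CfsgLib.QuadOff
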