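import Mathlib

/-!
Three mutually normalising spaces of square-zero elements: the exponential of a sum of three
elements is a product of six unipotent factors.
-/

set_option autoImplicit false

namespace CfsgLib.QuadOff

variable {R : Type*} [Ring R]

/-- `A` consists of elements with vanishing products. -/
def ZeroProd (A : AddSubgroup R) : Prop := ∀ x ∈ A, ∀ y ∈ A, x * y = 0

/-- Commutators of `A` and `B` lie in both. -/
def Meet (A B : AddSubgroup R) : Prop :=
  ∀ x ∈ A, ∀ y ∈ B, x * y - y * x ∈ A ∧ x * y - y * x ∈ B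

theorem Meet.symm {A B : AddSubgroup R} (h : Meet A B) : Meet B A := fun x hx y hy => by
  obtain ⟨h1, h2⟩ := h y hy x hx
  rw [← neg_sub]
  exact ⟨neg_mem h2, neg_mem h1⟩

theorem gap_one {A B : AddSubgroup R} (hA : ZeroProd A) (h : Meet A B) {a a' b : R}
    (ha : a ∈ A) (ha' : a' ∈ A) (hb : b ∈ B) : a * (b * a') = 0 := by
  have h1 : a * (b * a') = (a * a') * b - a * (a' * b - b * a') := by noncomm_ring
  rw [h1, hA a ha a' ha', hA a ha _ (h a' ha' b hb).1, zero_mul, sub_zero]

theorem gap_two {A B C : AddSubgroup R} (hA : ZeroProd A) (hb' : Meet A B) (hc' : Meet A C)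
    {a a' b c : R} (ha : a ∈ A) (ha' : a' ∈ A) (hb : b ∈ B) (hc : c ∈ C) :
    a * (b * (c * a')) = 0 := by
  have h1 : a * (b * (c * a')) = (a * (b * a')) * c - a * (b * (a' * c - c * a')) := by
    noncomm_ring
  rw [h1, gap_one hA hb' ha ha' hb, gap_one hA hb' ha (hc' a' ha' c hc).1 hb, zero_mul, sub_zero]

variable {a b c : R}

/-- The identity `exp (6a + 6b + 6c) = exp 6a exp 6b exp 6c exp w₂ exp w₃`. -/
theorem expo_identity
    (haa : a * a = 0) (hbb : b * b = 0) (hcc : c * c = 0)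
    (haba : a * (b * a) = 0) (haca : a * (c * a) = 0) (hbab : b * (a * b) = 0)
    (hbcb : b * (c * b) = 0) (hcac : c * (a * c) = 0) (hcbc : c * (b * c) = 0)
    (habca : a * (b * (c * a)) = 0) (hacba : a * (c * (b * a)) = 0)
    (hbacb : b * (a * (c * b)) = 0) (hbcab : b * (c * (a * b)) = 0)
    (hcabc : c * (a * (b * c)) = 0) (hcbac : c * (b * (a * c)) = 0)
    (hs : (a + b + c) * (a + b + c) = 0) :
    (1 + 6 * a) * (1 + 6 * b) * (1 + 6 * c) *
      ((1 + (-18 : ℤ) • (a * b - b * a)) * (1 + (-18 : ℤ) • (a * c - c * a)) *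
        (1 + (-18 : ℤ) • (b * c - c * b))) *
      ((1 + (-72 : ℤ) • (a * (b * c - c * b) - (b * c - c * b) * a)) *
        (1 + (144 : ℤ) • (b * (a * c - c * a) - (a * c - c * a) * b)))
      = 1 + 6 * (a + b + c) := by
  have raa : ∀ z : R, a * (a * z) = 0 := fun z => by rw [← mul_assoc, haa, zero_mul]
  have rbb : ∀ z : R, b * (b * z) = 0 := fun z => by rw [← mul_assoc, hbb, zero_mul]
  have rcc : ∀ z : R, c * (c * z) = 0 := fun z => by rw [← mul_assoc, hcc, zero_mul]
  have r3 : ∀ x y : R, x * (y * x) = 0 → ∀ z : R, x * (y * (x * z)) = 0 := fun x y h z => by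
    rw [show x * (y * (x * z)) = x * (y * x) * z by noncomm_ring, h, zero_mul]
  have s1 := r3 _ _ haba
  have s2 := r3 _ _ haca
  have s3 := r3 _ _ hbab
  have s4 := r3 _ _ hbcb
  have s5 := r3 _ _ hcac
  have s6 := r3 _ _ hcbc
  have t1 : (a + b + c) * ((a + b + c) * (a + b + c)) = 0 := by rw [hs, mul_zero]
  have key : (1 + 6 * a) * (1 + 6 * b) * (1 + 6 * c) *
      ((1 + (-18 : ℤ) • (a * b - b * a)) * (1 + (-18 : ℤ) • (a * c - c * a)) *
        (1 + (-18 : ℤ) • (b * c - c * b))) *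
      ((1 + (-72 : ℤ) • (a * (b * c - c * b) - (b * c - c * b) * a)) *
        (1 + (144 : ℤ) • (b * (a * c - c * a) - (a * c - c * a) * b)))
      = 1 + 6 * (a + b + c) + (18 : ℤ) • ((a + b + c) * (a + b + c))
        + (36 : ℤ) • ((a + b + c) * ((a + b + c) * (a + b + c))) := by
    simp only [show (6 : R) = ((6 : ℤ) • (1 : R)) by simp, smul_mul_assoc, one_mul, mul_smul_comm,
      mul_add, add_mul, mul_sub, sub_mul, mul_one, mul_assoc, smul_add, smul_sub, smul_smul,
      haa, hbb, hcc, haba, haca, hbab, hbcb, hcac, hcbc, habca, hacba, hbacb, hbcab, hcabc, hcbac,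
      raa, rbb, rcc, s1, s2, s3, s4, s5, s6, mul_zero,
      smul_zero, add_zero, zero_add, sub_zero, zero_sub, neg_zero]
    abel
  rw [key, t1, hs, smul_zero, smul_zero, add_zero, add_zero]

end CfsgLib.QuadOff
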