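import Mathlib
import Cfsg.Agent.Lib.QuadOff.Expo
import Cfsg.Agent.Lib.QuadOff.Degen

/-!
A quadratic offender of a `p`-group (`p ≥ 5`) can be chosen normal in its normal closure:
degenerate along a quadratic conjugate, which moves it down a stable flag.
-/

set_option autoImplicit false

namespace CfsgLib.QuadOff

open Polynomial

variable {p : ℕ} {R : Type*} [Ring R] {G : Type*} [Group G] (ρ : G →* R)

theorem mem_of_nsmul_mem (hpR : (p : R) = 0) {k : ℕ} (hk : Nat.Coprime k p) {S : AddSubgroup R}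
    {x : R} (hx : k • x ∈ S) : x ∈ S := by
  have hp0 : (p : ℤ) • x = 0 := by rw [zsmul_eq_mul, Int.cast_natCast, hpR, zero_mul]
  obtain ⟨u, v, huv⟩ := (Nat.isCoprime_iff_coprime.mpr hk : IsCoprime (k : ℤ) (p : ℤ))
  have e : x = u • (k • x) := by
    have h := congrArg (fun z : ℤ => z • x) huv
    simp only [add_smul, mul_smul, hp0, smul_zero, add_zero, one_smul, natCast_zsmul] at h
    exact h.symm
  rw [e]
  exact zsmul_mem hx u

/-- Square-zero spaces all whose exponentials lie in the group. -/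
def Qd (A : AddSubgroup R) : Prop := ZeroProd A ∧ ∀ x ∈ A, ∃ g, ρ g = 1 + x

theorem map_inv_of_eq {g : G} {x : R} (h : ρ g = 1 + x) (hx : x * x = 0) :
    ρ g⁻¹ = 1 - x := by
  have h2 : (1 + x) * (1 - x) = 1 := by
    rw [mul_sub, mul_one, add_mul, one_mul, hx, add_zero, add_sub_cancel_right]
  exact left_inv_eq_right_inv (by rw [← h, ← map_mul, inv_mul_cancel, map_one]) h2

/-- The group with logarithms `A`. -/
def grp {A : AddSubgroup R} (hA : ZeroProd A) : Subgroup G where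
  carrier := {g | ρ g - 1 ∈ A}
  one_mem' := by simp
  mul_mem' := by
    intro g h hg hh
    have e : ρ (g * h) - 1 = (ρ g - 1) + (ρ h - 1) + (ρ g - 1) * (ρ h - 1) := by
      rw [map_mul]; noncomm_ring
    show ρ (g * h) - 1 ∈ A
    rw [e, hA _ hg _ hh, add_zero]
    exact add_mem hg hh
  inv_mem' := by
    intro g hg
    show ρ g⁻¹ - 1 ∈ A
    rw [map_inv_of_eq ρ (add_sub_cancel 1 (ρ g)).symm (hA _ hg _ hg)]
    simpa using neg_mem (show ρ g - 1 ∈ A from hg)

theorem mem_grp {A : AddSubgroup R} {hA : ZeroProd A} {g : G} :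
    g ∈ grp ρ hA ↔ ρ g - 1 ∈ A := Iff.rfl

/-- Conjugation by `ρ g`. -/
def cj (g : G) : R →+ R := (AddMonoidHom.mulRight (ρ g⁻¹)).comp (AddMonoidHom.mulLeft (ρ g))

theorem cj_apply (g : G) (x : R) : cj ρ g x = ρ g * x * ρ g⁻¹ := rfl

theorem cj_mul (g h : G) (x : R) : cj ρ (g * h) x = cj ρ g (cj ρ h x) := by
  simp only [cj_apply, mul_inv_rev, map_mul, mul_assoc]

theorem cj_one (x : R) : cj ρ 1 x = x := by simp [cj_apply]

theorem cj_inv_cj (g : G) (x : R) : cj ρ g⁻¹ (cj ρ g x) = x := by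
  rw [← cj_mul, inv_mul_cancel, cj_one]

theorem cj_cj_inv (g : G) (x : R) : cj ρ g (cj ρ g⁻¹ x) = x := by
  rw [← cj_mul, mul_inv_cancel, cj_one]

theorem cj_mul' (g : G) (x y : R) : cj ρ g (x * y) = cj ρ g x * cj ρ g y := by
  have h : ρ g⁻¹ * ρ g = 1 := by rw [← map_mul, inv_mul_cancel, map_one]
  simp only [cj_apply]
  rw [show ρ g * x * ρ g⁻¹ * (ρ g * y * ρ g⁻¹) = ρ g * x * (ρ g⁻¹ * ρ g) * y * ρ g⁻¹ by
    simp only [mul_assoc], h]
  simp only [mul_one, mul_assoc]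

theorem map_conj_sub_one (g a : G) : ρ (g * a * g⁻¹) - 1 = cj ρ g (ρ a - 1) := by
  rw [map_sub, cj_apply, cj_apply, mul_one, ← map_mul ρ g g⁻¹, mul_inv_cancel, map_one,
    map_mul, map_mul]

theorem Qd.map {A : AddSubgroup R} (hA : Qd ρ A) (g : G) : Qd ρ (A.map (cj ρ g)) := by
  constructor
  · rintro _ ⟨x, hx, rfl⟩ _ ⟨y, hy, rfl⟩
    rw [← cj_mul', hA.1 x hx y hy, map_zero]
  · rintro _ ⟨x, hx, rfl⟩
    obtain ⟨h, hh⟩ := hA.2 x hx
    refine ⟨g * h * g⁻¹, ?_⟩
    rw [← sub_eq_iff_eq_add', map_conj_sub_one, hh, add_sub_cancel_left]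

theorem grp_map {A : AddSubgroup R} (hA : Qd ρ A) (g : G) :
    grp ρ (hA.map ρ g).1 = (grp ρ hA.1).map (MulAut.conj g).toMonoidHom := by
  ext b
  constructor
  · rintro ⟨x, hx, hxb⟩
    refine ⟨g⁻¹ * b * g⁻¹⁻¹, ?_, ?_⟩
    · show ρ (g⁻¹ * b * g⁻¹⁻¹) - 1 ∈ A
      rw [map_conj_sub_one, ← hxb, cj_inv_cj]
      exact hx
    · simp [mul_assoc]
  · rintro ⟨a, ha, rfl⟩
    exact ⟨ρ a - 1, ha, (map_conj_sub_one ρ g a).symm⟩

/-- Mutually normalising groups have commutators in the intersection. -/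
theorem meet_of_normalizes (hpR : (p : R) = 0) (h2 : Nat.Coprime 2 p) {A B : AddSubgroup R}
    (hA : Qd ρ A) (hB : Qd ρ B)
    (hAB : grp ρ hA.1 ≤ Subgroup.normalizer (grp ρ hB.1 : Set G))
    (hBA : grp ρ hB.1 ≤ Subgroup.normalizer (grp ρ hA.1 : Set G)) : Meet A B := by
  have key : ∀ {A B : AddSubgroup R} (hA : Qd ρ A) (hB : Qd ρ B),
      grp ρ hA.1 ≤ Subgroup.normalizer (grp ρ hB.1 : Set G) →
      ∀ x ∈ A, ∀ y ∈ B, x * y - y * x ∈ B := by
    intro A B hA hB h x hx y hy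
    have step : ∀ z ∈ A, y + (z * y - y * z) - z * y * z ∈ B := by
      intro z hz
      obtain ⟨g, hg⟩ := hA.2 z hz
      obtain ⟨b, hb⟩ := hB.2 y hy
      have hgA : g ∈ grp ρ hA.1 := by rw [mem_grp, hg, add_sub_cancel_left]; exact hz
      have hbB : b ∈ grp ρ hB.1 := by rw [mem_grp, hb, add_sub_cancel_left]; exact hy
      have h1 := (Subgroup.mem_normalizer_iff.mp (h hgA) b).mp hbB
      rw [mem_grp, map_conj_sub_one, hb, add_sub_cancel_left, cj_apply, hg,
        map_inv_of_eq ρ hg (hA.1 z hz z hz)] at h1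
      have e : y + (z * y - y * z) - z * y * z = (1 + z) * y * (1 - z) := by noncomm_ring
      rw [e]
      exact h1
    have h3 := sub_mem (step x hx) (step (-x) (neg_mem hx))
    refine mem_of_nsmul_mem hpR h2 ?_
    convert h3 using 1
    noncomm_ring
  intro x hx y hy
  refine ⟨?_, key hA hB hAB x hx y hy⟩
  rw [← neg_sub]
  exact neg_mem (key hB hA hBA y hy x hx)

/-- Exponential lifting from three mutually normalising spaces. -/
theorem exists_exp (hpR : (p : R) = 0) (h6 : Nat.Coprime 6 p) {A B C : AddSubgroup R}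
    (hA : Qd ρ A) (hB : Qd ρ B) (hC : Qd ρ C) (hAB : Meet A B) (hAC : Meet A C) (hBC : Meet B C)
    {a b c : R} (ha : a ∈ A) (hb : b ∈ B) (hc : c ∈ C)
    (hs : (a + b + c) * (a + b + c) = 0) : ∃ g, ρ g = 1 + (a + b + c) := by
  have hp0 : (p : ℤ) • (1 : R) = 0 := by rw [zsmul_one, Int.cast_natCast, hpR]
  obtain ⟨u, v, huv⟩ := (Nat.isCoprime_iff_coprime.mpr h6 : IsCoprime ((6 : ℕ) : ℤ) (p : ℤ))
  have hsix : ∀ x : R, (6 : R) * (u • x) = x := by
    intro x
    have h := congrArg (fun z : ℤ => z • x) huv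
    simp only [add_smul, mul_smul, one_smul] at h
    rw [show ((p : ℕ) : ℤ) • x = 0 by rw [zsmul_eq_mul, Int.cast_natCast, hpR, zero_mul],
      smul_zero, add_zero] at h
    refine Eq.trans ?_ h
    rw [mul_smul_comm]
    congr 1
    rw [zsmul_eq_mul]
    norm_num
  have ha' : u • a ∈ A := zsmul_mem ha u
  have hb' : u • b ∈ B := zsmul_mem hb u
  have hc' : u • c ∈ C := zsmul_mem hc u
  set a' := u • a with hae
  set b' := u • b with hbe
  set c' := u • c with hce
  have hab := hAB a' ha' b' hb'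
  have hac := hAC a' ha' c' hc'
  have hbc := hBC b' hb' c' hc'
  have w1 := hA.2 ((6 : R) * a') (by rw [hae, hsix]; exact ha)
  have w2 := hB.2 ((6 : R) * b') (by rw [hbe, hsix]; exact hb)
  have w3 := hC.2 ((6 : R) * c') (by rw [hce, hsix]; exact hc)
  have hq : a' * (b' * c' - c' * b') - (b' * c' - c' * b') * a' ∈ A :=
    (hAB a' ha' _ hbc.1).1
  have hr : b' * (a' * c' - c' * a') - (a' * c' - c' * a') * b' ∈ A :=
    (hAB.symm b' hb' _ hac.1).2
  obtain ⟨g1, h1⟩ := w1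
  obtain ⟨g2, h2⟩ := w2
  obtain ⟨g3, h3⟩ := w3
  obtain ⟨g4, h4⟩ := hA.2 _ (zsmul_mem hab.1 (-18))
  obtain ⟨g5, h5⟩ := hA.2 _ (zsmul_mem hac.1 (-18))
  obtain ⟨g6, h6'⟩ := hB.2 _ (zsmul_mem hbc.1 (-18))
  obtain ⟨g7, h7⟩ := hA.2 _ (zsmul_mem hq (-72))
  obtain ⟨g8, h8⟩ := hA.2 _ (zsmul_mem hr 144)
  refine ⟨g1 * g2 * g3 * (g4 * g5 * g6) * (g7 * g8), ?_⟩
  simp only [map_mul, h1, h2, h3, h4, h5, h6', h7, h8]
  have e : (6 : R) * (a' + b' + c') = a + b + c := by
    rw [hae, hbe, hce, mul_add, mul_add, hsix, hsix, hsix]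
  rw [← e]
  refine expo_identity (hA.1 _ ha' _ ha') (hB.1 _ hb' _ hb') (hC.1 _ hc' _ hc')
    (gap_one hA.1 hAB ha' ha' hb') (gap_one hA.1 hAC ha' ha' hc')
    (gap_one hB.1 hAB.symm hb' hb' ha') (gap_one hB.1 hBC hb' hb' hc')
    (gap_one hC.1 hAC.symm hc' hc' ha') (gap_one hC.1 hBC.symm hc' hc' hb')
    (gap_two hA.1 hAB hAC ha' ha' hb' hc') (gap_two hA.1 hAC hAB ha' ha' hc' hb')
    (gap_two hB.1 hAB.symm hBC hb' hb' ha' hc') (gap_two hB.1 hBC hAB.symm hb' hb' hc' ha')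
    (gap_two hC.1 hAC.symm hBC.symm hc' hc' ha' hb') (gap_two hC.1 hBC.symm hAC.symm hc' hc' hb' ha') ?_
  rw [hae, hbe, hce, ← smul_add, ← smul_add, smul_mul_assoc, mul_smul_comm, hs, smul_zero,
    smul_zero]

/-- The flag of iterated fixed points of conjugation. -/
def flag : ℕ → AddSubgroup R
  | 0 => ⊥
  | i + 1 => ⨅ g : G, (flag i).comap (cj ρ g - AddMonoidHom.id R)

theorem mem_flag_succ {i : ℕ} {x : R} :
    x ∈ flag ρ (i + 1) ↔ ∀ g : G, cj ρ g x - x ∈ flag ρ i := by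
  simp [flag, AddSubgroup.mem_iInf, AddSubgroup.mem_comap]

theorem flag_le_succ : ∀ i, flag ρ i ≤ flag ρ (i + 1) := by
  intro i
  induction i with
  | zero => exact bot_le
  | succ i ih => exact fun x hx => (mem_flag_succ ρ).mpr fun g => ih ((mem_flag_succ ρ).mp hx g)

theorem cj_mem_flag : ∀ (i : ℕ) (g : G) (x : R), x ∈ flag ρ i → cj ρ g x ∈ flag ρ i := by
  intro i g x hx
  cases i with
  | zero =>
    rw [show flag ρ 0 = (⊥ : AddSubgroup R) from rfl, AddSubgroup.mem_bot] at hx ⊢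
    rw [hx, map_zero]
  | succ i =>
    have h := flag_le_succ ρ i ((mem_flag_succ ρ).mp hx g)
    simpa using add_mem h hx

theorem exists_flag_top [Finite R] [Fact p.Prime] (hpR : (p : R) = 0) (hG : IsPGroup p G) :
    ∃ N, flag ρ N = ⊤ := by
  by_contra hne
  rw [not_exists] at hne
  have hlt : ∀ i, flag ρ i < flag ρ (i + 1) := by
    intro i
    refine lt_of_le_of_ne (flag_le_succ ρ i) fun he => hne i ?_
    set F := flag ρ i with hF
    let act : MulAction G (R ⧸ F) :=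
      { smul := fun g q => QuotientAddGroup.map F F (cj ρ g)
          (fun x hx => cj_mem_flag ρ i g x hx) q
        one_smul := by
          intro q
          induction q using QuotientAddGroup.induction_on with
          | H x => exact congrArg QuotientAddGroup.mk (cj_one ρ x)
        mul_smul := by
          intro g h q
          induction q using QuotientAddGroup.induction_on with
          | H x => exact congrArg QuotientAddGroup.mk (cj_mul ρ g h x) }
    by_contra htop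
    have hq1 : 1 < Nat.card (R ⧸ F) := by
      have : Nontrivial (R ⧸ F) := QuotientAddGroup.nontrivial_iff.mpr htop
      exact Finite.one_lt_card
    have hpd : p ∣ Nat.card (R ⧸ F) := by
      obtain ⟨q, hq, hqd⟩ := Nat.exists_prime_and_dvd (n := Nat.card (R ⧸ F)) (by omega)
      haveI := Fact.mk hq
      obtain ⟨x, hx⟩ := exists_prime_addOrderOf_dvd_card' (G := R ⧸ F) q hqd
      have h1 : addOrderOf x ∣ p := by
        refine addOrderOf_dvd_of_nsmul_eq_zero ?_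
        induction x using QuotientAddGroup.induction_on with
        | H r =>
          rw [← QuotientAddGroup.mk_nsmul, nsmul_eq_mul, hpR, zero_mul]
          rfl
      rw [hx] at h1
      rw [← (Nat.prime_dvd_prime_iff_eq hq Fact.out).mp h1]
      exact hqd
    obtain ⟨q, hq, hqne⟩ := hG.exists_fixed_point_of_prime_dvd_card_of_fixed_point (R ⧸ F) hpd
      (a := 0) fun g => map_zero (QuotientAddGroup.map F F (cj ρ g) _)
    induction q using QuotientAddGroup.induction_on with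
    | H x =>
      have hx : x ∈ flag ρ (i + 1) := (mem_flag_succ ρ).mpr fun g =>
        (QuotientAddGroup.eq_iff_sub_mem).mp (hq g)
      rw [← he] at hx
      exact hqne ((QuotientAddGroup.eq_zero_iff x).mpr hx).symm
  have hc : ∀ i, i ≤ Nat.card (flag ρ i) := by
    intro i
    induction i with
    | zero => exact Nat.zero_le _
    | succ i ih =>
      have h1 : Nat.card (flag ρ i) < Nat.card (flag ρ (i + 1)) :=
        Set.Finite.card_lt_card (Set.toFinite _) (hlt i)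
      omega
  have h1 := hc (Nat.card R + 1)
  have h2 := AddSubgroup.card_le_card_addGroup (flag ρ (Nat.card R + 1))
  omega

/-- The right annihilator inside `I`. -/
def ann (I : AddSubgroup R) (A : AddSubgroup R) : AddSubgroup R :=
  I ⊓ ⨅ x ∈ A, (AddMonoidHom.mulLeft x).ker

theorem mem_ann {I A : AddSubgroup R} {z : R} : z ∈ ann I A ↔ z ∈ I ∧ ∀ x ∈ A, x * z = 0 := by
  simp [ann, AddSubgroup.mem_inf, AddSubgroup.mem_iInf]

theorem coeff_conj_C (γ a : R) : (1 + C γ * X) * C a * (1 - C γ * X) =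
    C a + C (γ * a - a * γ) * X + C (-(γ * a * γ)) * X ^ 2 := by
  have e : ∀ q : R, X * C q = C q * X := fun q => ((commute_X (C q)).eq)
  simp only [map_sub, map_mul, map_neg]
  calc (1 + C γ * X) * C a * (1 - C γ * X)
      = C a - C a * C γ * X + C γ * (X * C a) - C γ * (X * C a) * C γ * X := by noncomm_ring
    _ = C a - C a * C γ * X + C γ * C a * X - C γ * C a * (X * C γ) * X := by
        rw [e]; noncomm_ring
    _ = _ := by rw [e]; noncomm_ring

theorem coeffsIn_quadratic {S : AddSubgroup R} {a0 a1 a2 : R} (h0 : a0 ∈ S) (h1 : a1 ∈ S)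
    (h2 : a2 ∈ S) : CoeffsIn S (C a0 + C a1 * X + C a2 * X ^ 2) := fun i => by
  rw [coeff_add, coeff_add]
  refine add_mem (add_mem ?_ ?_) ?_
  · exact CoeffsIn.monomial h0 0 i
  · rw [C_mul_X_eq_monomial]
    exact CoeffsIn.monomial h1 1 i
  · rw [C_mul_X_pow_eq_monomial]
    exact CoeffsIn.monomial h2 2 i

section Step

variable {c : G} {γ : R}

theorem one_add_mul_one_sub (hγ : γ * γ = 0) :
    (1 + C γ * X) * (1 - C γ * X) = (1 : R[X]) ∧ (1 - C γ * X) * (1 + C γ * X) = (1 : R[X]) := by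
  have h : C γ * X * (C γ * X) = (0 : R[X]) := by
    rw [show C γ * X * (C γ * X) = C γ * (X * C γ) * X by simp only [mul_assoc],
      (commute_X (C γ)).eq, ← mul_assoc, ← map_mul C γ γ, hγ]
    simp
  constructor
  · rw [mul_sub, mul_one, add_mul, one_mul, h, add_zero, add_sub_cancel_right]
  · rw [sub_mul, one_mul, mul_add, mul_one, h, add_zero, add_sub_cancel_right]

variable (hc : ρ c = 1 + γ) (hγ : γ * γ = 0)

include hc in
theorem cj_c (x : R) (hγ : γ * γ = 0) :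
    cj ρ c x = x + (γ * x - x * γ) + -(γ * x * γ) := by
  rw [cj_apply, hc, map_inv_of_eq ρ hc hγ]
  noncomm_ring

include hc hγ in
theorem cj_c_inv (x : R) : cj ρ c⁻¹ x = x - (γ * x - x * γ) + -(γ * x * γ) := by
  rw [cj_apply, inv_inv, hc, map_inv_of_eq ρ hc hγ]
  noncomm_ring

include hc hγ in
/-- Components of conjugation by `c` stay in a stable subgroup. -/
theorem comps_mem (hpR : (p : R) = 0) (h2 : Nat.Coprime 2 p) {F : AddSubgroup R} {x : R}
    (h3 : cj ρ c x - x ∈ F) (h4 : cj ρ c⁻¹ x - x ∈ F) :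
    γ * x - x * γ ∈ F ∧ -(γ * x * γ) ∈ F := by
  rw [cj_c ρ hc x hγ] at h3
  rw [cj_c_inv ρ hc hγ x] at h4
  constructor
  · refine mem_of_nsmul_mem hpR h2 ?_
    convert sub_mem h3 h4 using 1
    abel
  · refine mem_of_nsmul_mem hpR h2 ?_
    convert add_mem h3 h4 using 1
    abel

end Step

variable [Finite R] [Fact p.Prime]

/-- Quadratic offender. -/
def Good (I : AddSubgroup R) (N : ℕ) (A : AddSubgroup R) : Prop :=
  A ≠ ⊥ ∧ Qd ρ A ∧ N ≤ Nat.card A * Nat.card (ann I A)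

/-- Potential. -/
noncomputable def pot (n : ℕ) (A : AddSubgroup R) : ℕ :=
  ∑ i ∈ Finset.range (n + 1), Nat.card ↥(A ⊓ flag ρ i)

/-- One degeneration step. -/
theorem exists_better (hpR : (p : R) = 0) (hp : 5 ≤ p) {I : AddSubgroup R}
    (hI : ∀ r : R, ∀ z ∈ I, r * z ∈ I) {N n : ℕ} (hn : flag ρ n = ⊤) {A : AddSubgroup R}
    (hA : Good ρ I N A) {c : G} {γ : R} (hc : ρ c = 1 + γ) (hγ : γ * γ = 0)
    (hm0 : Meet A (A.map (cj ρ c))) (hm1 : Meet A (A.map (cj ρ c⁻¹)))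
    (hm2 : Meet (A.map (cj ρ c)) (A.map (cj ρ c⁻¹)))
    (hmove : ¬ ∀ x ∈ A, cj ρ c x ∈ A) :
    ∃ M, Good ρ I N M ∧ pot ρ n A < pot ρ n M := by
  classical
  obtain ⟨hAne, hQ, hoff⟩ := hA
  have hp' : p.Prime := Fact.out
  have h2 : Nat.Coprime 2 p := (Nat.coprime_primes Nat.prime_two hp').mpr (by omega)
  have h6 : Nat.Coprime 6 p := by
    rw [show (6 : ℕ) = 2 * 3 from rfl]
    exact Nat.Coprime.mul_left h2 ((Nat.coprime_primes Nat.prime_three hp').mpr (by omega))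
  set U : R[X] := 1 + C γ * X with hU
  set U' : R[X] := 1 - C γ * X with hU'
  obtain ⟨hUU', hU'U⟩ := one_add_mul_one_sub (R := R) hγ
  set M := top A U U' with hM
  have hconjC : ∀ {S T : AddSubgroup R}, S ≤ T →
      (∀ x ∈ S, γ * x - x * γ ∈ T ∧ -(γ * x * γ) ∈ T) → top S U U' ≤ T := by
    intro S T hST h
    refine top_le fun x hx => ?_
    rw [hU, hU', coeff_conj_C]
    exact coeffsIn_quadratic (hST hx) (h x hx).1 (h x hx).2
  -- products
  have hMz : ZeroProd M := fun x hx y hy => top_mul_top hQ.1 hU'U hx hy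
  -- lifting
  have hML : M ≤ A ⊔ A.map (cj ρ c) ⊔ A.map (cj ρ c⁻¹) := by
    refine hconjC (le_sup_left.trans le_sup_left) fun x hx => ?_
    have hx0 : x ∈ A ⊔ A.map (cj ρ c) ⊔ A.map (cj ρ c⁻¹) :=
      AddSubgroup.mem_sup_left (AddSubgroup.mem_sup_left hx)
    exact comps_mem ρ hc hγ hpR h2
      (sub_mem (AddSubgroup.mem_sup_left (AddSubgroup.mem_sup_right ⟨x, hx, rfl⟩)) hx0)
      (sub_mem (AddSubgroup.mem_sup_right ⟨x, hx, rfl⟩) hx0)
  have hMQ : Qd ρ M := by
    refine ⟨hMz, fun x hx => ?_⟩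
    obtain ⟨y, hy, z, hz, rfl⟩ := AddSubgroup.mem_sup.mp (hML hx)
    obtain ⟨a, ha, b, hb, rfl⟩ := AddSubgroup.mem_sup.mp hy
    exact exists_exp ρ hpR h6 hQ (hQ.map ρ c) (hQ.map ρ c⁻¹) hm0 hm1 hm2 ha hb hz (hMz _ hx _ hx)
  -- sizes
  have hcard : Nat.card A ≤ Nat.card M := card_le_card_top A U U' (V := U') (V' := U) hU'U hU'U
  have hann : Nat.card (ann I A) ≤ Nat.card (ann I M) := by
    refine (card_le_card_top (ann I A) U 1 (V := U') (V' := 1) hU'U (mul_one _)).trans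
      (Nat.card_le_card_of_injective (fun z => ⟨z.1, ?_⟩) fun a b h => Subtype.ext
        (congrArg (fun q : ↥(ann I M) => (q : R)) h))
    refine mem_ann.mpr ⟨?_, fun x hx => top_mul_top (fun a ha b hb => (mem_ann.mp hb).2 a ha)
      hU'U hx z.2⟩
    refine top_le (T := I) (fun x hx i => ?_) z.2
    rw [mul_one, hU, add_mul, one_mul, mul_assoc, (commute_X (C x)).eq, ← mul_assoc, ← map_mul]
    exact coeffsIn_quadratic (mem_ann.mp hx).1 (hI γ x (mem_ann.mp hx).1) (zero_mem I) i |>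
      (by simpa using ·)
  have hMne : M ≠ ⊥ := fun h => hAne (AddSubgroup.eq_bot_of_card_le _ (hcard.trans (by
    rw [h, AddSubgroup.card_bot])))
  refine ⟨M, ⟨hMne, hMQ, hoff.trans (Nat.mul_le_mul hcard hann)⟩, ?_⟩
  -- the potential
  have hflagF : ∀ i, ∀ x ∈ flag ρ i, γ * x - x * γ ∈ flag ρ i ∧ -(γ * x * γ) ∈ flag ρ i :=
    fun i x hx => comps_mem ρ hc hγ hpR h2 (sub_mem (cj_mem_flag ρ i c x hx) hx)
      (sub_mem (cj_mem_flag ρ i c⁻¹ x hx) hx)
  have hle : ∀ i, Nat.card ↥(A ⊓ flag ρ i) ≤ Nat.card ↥(M ⊓ flag ρ i) := fun i =>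
    (card_le_card_top (A ⊓ flag ρ i) U U' (V := U') (V' := U) hU'U hU'U).trans
      (Nat.card_le_card_of_injective (AddSubgroup.inclusion
        (le_inf (top_mono inf_le_left U U') ((top_mono inf_le_right U U').trans
          (hconjC le_rfl (hflagF i))))) (AddSubgroup.inclusion_injective _))
  let P : ℕ → Prop := fun i => ∀ x ∈ A ⊓ flag ρ i,
    γ * x - x * γ ∈ A ⊓ flag ρ i ∧ -(γ * x * γ) ∈ A ⊓ flag ρ i
  have hex : ∃ i, ¬ P i := ⟨n, fun h => hmove fun x hx => by
    have hxF : x ∈ A ⊓ flag ρ n := ⟨hx, by rw [hn]; trivial⟩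
    rw [cj_c ρ hc x hγ]
    exact add_mem (add_mem hx (h x hxF).1.1) (h x hxF).2.1⟩
  obtain ⟨i, hi, hmin⟩ : ∃ i, ¬ P i ∧ ∀ j < i, P j :=
    ⟨Nat.find hex, Nat.find_spec hex, fun j hj => not_not.mp (Nat.find_min hex hj)⟩
  have hi0 : i ≠ 0 := by
    rintro rfl
    refine hi fun x hx => ?_
    have hx0 : x = 0 := AddSubgroup.mem_bot.mp hx.2
    simp [hx0]
  obtain ⟨j, rfl⟩ := Nat.exists_eq_succ_of_ne_zero hi0
  have hjn : j ≤ n := by
    by_contra hlt
    refine hi fun x hx => ?_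
    have hmono : ∀ k, n ≤ k → flag ρ k = ⊤ := fun k hk => top_unique
      (hn ▸ monotone_nat_of_le_succ (flag_le_succ ρ) hk)
    have e1 : flag ρ (j + 1) = flag ρ j := by rw [hmono _ (by omega), hmono _ (by omega)]
    rw [e1] at hx ⊢
    exact hmin j (Nat.lt_succ_self j) x hx
  obtain ⟨a, ha, hbad⟩ : ∃ a ∈ A ⊓ flag ρ (j + 1),
      ¬ (γ * a - a * γ ∈ A ⊓ flag ρ (j + 1) ∧ -(γ * a * γ) ∈ A ⊓ flag ρ (j + 1)) := by
    simp only [P] at hi
    push Not at hi
    obtain ⟨a, ha, hb⟩ := hi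
    exact ⟨a, ha, fun h => hb h.1 h.2⟩
  have hd := comps_mem ρ hc hγ hpR h2 ((mem_flag_succ ρ).mp ha.2 c)
    ((mem_flag_succ ρ).mp ha.2 c⁻¹)
  have hBP := hmin j (Nat.lt_succ_self j)
  -- constants of `A ⊓ F_j` are in `M`
  have hpre : ∀ b ∈ A ⊓ flag ρ j, ∀ k : ℕ, CoeffsIn A (U' * (C b * X ^ k) * U) ∧
      U * (U' * (C b * X ^ k) * U) * U' = C b * X ^ k := by
    intro b hb k
    constructor
    · have e : U' * (C b * X ^ k) * U =
          (C b + C (-(γ * b - b * γ)) * X + C (-(γ * b * γ)) * X ^ 2) * X ^ k := by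
        have h1 : (1 - C γ * X) * C b * (1 + C γ * X) =
            C b + C (-(γ * b - b * γ)) * X + C (-(γ * b * γ)) * X ^ 2 := by
          have h := coeff_conj_C (-γ) b
          rw [map_neg C γ, neg_mul, sub_neg_eq_add, ← sub_eq_add_neg,
            show -γ * b - b * -γ = -(γ * b - b * γ) by noncomm_ring,
            show -(-γ * b * -γ) = -(γ * b * γ) by noncomm_ring] at h
          exact h
        rw [hU', hU, show (1 - C γ * X) * (C b * X ^ k) * (1 + C γ * X)
          = (1 - C γ * X) * C b * (1 + C γ * X) * X ^ k by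
            simp only [mul_assoc, (commute_X_pow (1 + C γ * X) k).eq], h1]
      rw [e]
      exact (coeffsIn_quadratic hb.1 (neg_mem (hBP b hb).1.1) (hBP b hb).2.1).mul_X_pow k
    · rw [show U * (U' * (C b * X ^ k) * U) * U' = (U * U') * (C b * X ^ k) * (U * U') by
        simp only [mul_assoc], hUU', one_mul, mul_one]
  have hBM : A ⊓ flag ρ j ≤ M ⊓ flag ρ j := fun b hb => by
    refine ⟨?_, hb.2⟩
    obtain ⟨h1, h2⟩ := hpre b hb 0
    refine ⟨0, _, h1, ?_, ?_⟩
    · rw [h2]; simp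
    · rw [h2]; simp
  obtain ⟨x, hxM, hxA⟩ : ∃ x ∈ M ⊓ flag ρ j, x ∉ A ⊓ flag ρ j := by
    have hup : ∀ y, y ∈ A ⊓ flag ρ j → y ∈ A ⊓ flag ρ (j + 1) := fun y hy =>
      ⟨hy.1, flag_le_succ ρ j hy.2⟩
    by_cases h : -(γ * a * γ) ∈ A ⊓ flag ρ j
    · have h1 : γ * a - a * γ ∉ A ⊓ flag ρ j := fun h1 => hbad ⟨hup _ h1, hup _ h⟩
      refine ⟨γ * a - a * γ, ⟨⟨1, C a - U' * (C (-(γ * a * γ)) * X ^ 2) * U, ?_, ?_, ?_⟩, hd.1⟩, h1⟩
      · intro k
        rw [coeff_sub]
        exact sub_mem (CoeffsIn.monomial ha.1 0 k) ((hpre _ h 2).1 k)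
      all_goals
        rw [mul_sub U, sub_mul _ _ U', (hpre _ h 2).2, hU, hU', coeff_conj_C, add_sub_cancel_right]
      · refine (natDegree_add_le _ _).trans (max_le (by simp) ?_)
        exact (natDegree_C_mul_le _ _).trans natDegree_X_le
      · simp [coeff_C]
    · refine ⟨-(γ * a * γ), ⟨⟨2, C a, fun k => CoeffsIn.monomial ha.1 0 k, ?_, ?_⟩, hd.2⟩, h⟩
      all_goals rw [hU, hU', coeff_conj_C]
      · compute_degree
      · rw [coeff_add, coeff_add, coeff_C_mul_X_pow, coeff_C_mul_X, coeff_C]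
        simp
  have hlt : Nat.card ↥(A ⊓ flag ρ j) < Nat.card ↥(M ⊓ flag ρ j) :=
    Set.Finite.card_lt_card (Set.toFinite _) (SetLike.coe_ssubset_coe.mpr
      (lt_of_le_of_ne hBM fun e => hxA (e ▸ hxM)))
  exact Finset.sum_lt_sum (fun i _ => hle i) ⟨j, Finset.mem_range.mpr (by omega), hlt⟩

/-- Some quadratic offender is normalised by all its conjugates. -/
theorem exists_two_subnormal [Finite G] (hpR : (p : R) = 0) (hp : 5 ≤ p) (hG : IsPGroup p G)
    {I : AddSubgroup R} (hI : ∀ r : R, ∀ z ∈ I, r * z ∈ I) {N : ℕ}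
    (hex : ∃ A, Good ρ I N A) :
    ∃ A, Good ρ I N A ∧ ∀ (hz : ZeroProd A) (g : G),
      (grp ρ hz).map (MulAut.conj g).toMonoidHom ≤ Subgroup.normalizer (grp ρ hz : Set G) := by
  classical
  obtain ⟨n, hn⟩ := exists_flag_top ρ hpR hG
  obtain ⟨A, hA, hmax⟩ := ({A | Good ρ I N A} : Set (AddSubgroup R)).toFinite.exists_maximalFor
    (pot ρ n) _ hex
  refine ⟨A, hA, fun hz g₀ => ?_⟩
  by_contra hg₀
  have hQ : Qd ρ A := hA.2.1
  set B := grp ρ hQ.1 with hB
  let cjB : G → Subgroup G := fun g => B.map (MulAut.conj g).toMonoidHom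
  set NB := Subgroup.normalizer (B : Set G) with hNB
  set S := ⨆ g ∈ {g : G | cjB g ≤ NB}, cjB g with hS
  have hSN : S ≤ NB := iSup₂_le fun g hg => hg
  have hcjcj : ∀ h g, (cjB g).map (MulAut.conj h).toMonoidHom = cjB (h * g) := fun h g => by
    simp only [cjB, Subgroup.map_map]
    congr 1
    ext x
    simp [mul_assoc]
  have hone : cjB 1 = B := by ext x; simp [cjB]
  have hBN : cjB 1 ≤ NB := by rw [hone]; exact Subgroup.le_normalizer
  -- a conjugate in `N(S)` outside `N(B)`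
  obtain ⟨g, hgS, hgB⟩ : ∃ g, cjB g ≤ Subgroup.normalizer (S : Set G) ∧ ¬ cjB g ≤ NB := by
    by_contra hcon
    push Not at hcon
    have hin : ∀ g, cjB g ≤ Subgroup.normalizer (S : Set G) → cjB g ≤ S := fun g hg =>
      le_iSup₂_of_le g (hcon g hg) le_rfl
    have hSS : S ≤ Subgroup.normalizer (S : Set G) := Subgroup.le_normalizer
    have hfix : Subgroup.normalizer ((Subgroup.normalizer (S : Set G)) : Set G) ≤
        Subgroup.normalizer (S : Set G) := by
      have hsub : ∀ h ∈ Subgroup.normalizer ((Subgroup.normalizer (S : Set G)) : Set G),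
          S.map (MulAut.conj h).toMonoidHom ≤ S := by
        intro h hh
        rw [hS, Subgroup.map_iSup]
        refine iSup_le fun g => ?_
        rw [Subgroup.map_iSup]
        refine iSup_le fun hg => ?_
        rw [hcjcj]
        refine hin _ ?_
        rw [← hcjcj]
        rintro _ ⟨x, hx, rfl⟩
        exact (Subgroup.mem_normalizer_iff.mp hh x).mp (hSS ((le_iSup₂_of_le g hg le_rfl :
          cjB g ≤ S) hx))
      intro h hh
      rw [Subgroup.mem_normalizer_iff]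
      intro x
      refine ⟨fun hx => hsub h hh ⟨x, hx, rfl⟩, fun hx => ?_⟩
      have h1 := hsub h⁻¹ (inv_mem hh) ⟨_, hx, rfl⟩
      simpa [mul_assoc] using h1
    haveI : Group.IsNilpotent G := hG.isNilpotent
    have htop : Subgroup.normalizer (S : Set G) = ⊤ := by
      by_contra hne
      exact absurd hfix (not_le_of_gt (Group.normalizerCondition_of_isNilpotent _
        (lt_top_iff_ne_top.mpr hne)))
    exact hg₀ ((hin g₀ (by rw [htop]; exact le_top)).trans hSN)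
  obtain ⟨c, hcg, hcB⟩ := SetLike.not_le_iff_exists.mp hgB
  have hBg : grp ρ (hQ.map ρ g).1 = cjB g := grp_map ρ hQ g
  rw [← hBg, mem_grp] at hcg
  set γ := ρ c - 1 with hγdef
  have hc : ρ c = 1 + γ := (add_sub_cancel 1 (ρ c)).symm
  have hγ : γ * γ = 0 := (hQ.map ρ g).1 _ hcg _ hcg
  have hcS : c ∈ Subgroup.normalizer (S : Set G) := hgS (by rw [← hBg, mem_grp]; exact hcg)
  have hBS : B ≤ S := (le_of_eq hone.symm).trans (le_iSup₂_of_le 1 hBN le_rfl)
  -- conjugates by elements of `N(S)` normalise each other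
  have hnorm : ∀ s ∈ Subgroup.normalizer (S : Set G), ∀ t ∈ Subgroup.normalizer (S : Set G),
      cjB s ≤ Subgroup.normalizer (cjB t : Set G) := by
    intro s hs t ht
    rintro _ ⟨b, hb, rfl⟩
    have h1 : t⁻¹ * (s * b * s⁻¹) * t⁻¹⁻¹ ∈ NB := hSN ((Subgroup.mem_normalizer_iff.mp
      (inv_mem ht) _).mp ((Subgroup.mem_normalizer_iff.mp hs _).mp (hBS hb)))
    rw [Subgroup.mem_normalizer_iff] at h1 ⊢
    intro y
    simp only [cjB, Subgroup.mem_map, MulEquiv.coe_toMonoidHom, MulAut.conj_apply]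
    constructor
    · rintro ⟨z, hz, rfl⟩
      exact ⟨_, (h1 z).mp hz, by group⟩
    · rintro ⟨z, hz, e⟩
      refine ⟨t⁻¹ * y * t, (h1 _).mpr ?_, by group⟩
      convert hz using 1
      calc _ = t⁻¹ * (s * b * s⁻¹ * y * (s * b * s⁻¹)⁻¹) * t := by group
        _ = t⁻¹ * (t * z * t⁻¹) * t := by rw [e]
        _ = z := by group
  have h2 : Nat.Coprime 2 p := (Nat.coprime_primes Nat.prime_two Fact.out).mpr (by omega)
  have hmeet : ∀ s ∈ Subgroup.normalizer (S : Set G), ∀ t ∈ Subgroup.normalizer (S : Set G),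
      Meet (A.map (cj ρ s)) (A.map (cj ρ t)) := fun s hs t ht =>
    meet_of_normalizes ρ hpR h2 (hQ.map ρ s) (hQ.map ρ t)
      (by rw [grp_map ρ hQ, grp_map ρ hQ]; exact hnorm s hs t ht)
      (by rw [grp_map ρ hQ, grp_map ρ hQ]; exact hnorm t ht s hs)
  have hA1 : A.map (cj ρ 1) = A := by ext x; simp [cj_one]
  have hmove : ¬ ∀ x ∈ A, cj ρ c x ∈ A := by
    intro h
    refine hcB (Subgroup.mem_normalizer_iff_map_conj_eq.mpr ?_)
    refine Subgroup.eq_of_le_of_card_ge ?_ (le_of_eq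
      (Subgroup.card_map_of_injective (MulAut.conj c).injective).symm)
    rintro _ ⟨b, hb, rfl⟩
    show ρ (c * b * c⁻¹) - 1 ∈ A
    rw [map_conj_sub_one]
    exact h _ hb
  have hm0 := hmeet 1 (one_mem _) c hcS
  have hm1 := hmeet 1 (one_mem _) c⁻¹ (inv_mem hcS)
  rw [hA1] at hm0 hm1
  obtain ⟨M, hM, hlt⟩ := exists_better ρ hpR hp hI hn hA hc hγ hm0 hm1
    (hmeet c hcS c⁻¹ (inv_mem hcS)) hmove
  exact absurd (hmax hM hlt.le) (not_le.mpr hlt)

end CfsgLib.QuadOff
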