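import Mathlib
import Cfsg.Prelude.Def_Transfer
import Cfsg.Agent.Lib.QuadOff.Main
import Cfsg.Agent.Lib.Offender.Timmesfeld
import Cfsg.Agent.Lib.Quadratic.Groups

/-!
An `F`-module for a `p`-group, `p ≥ 5`, has a quadratic offender normal in its normal closure.
-/

set_option autoImplicit false
set_option linter.style.haveILetI false

namespace CfsgLib.QuadOff

open Cfsg CfsgLib.Quadratic CfsgLib.Offender
open scoped commutatorElement IsMulCommutative

variable {Ω : Type*} [Group Ω] {p : ℕ} (V G : Subgroup Ω) [IsMulCommutative V]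
  (hGV : G ≤ Subgroup.normalizer (V : Set Ω))

local notation "ρ" => act V G hGV

theorem mul_decomp {S : Type*} [Ring S] (u w : S) :
    u * w = (u - 1) * (w - 1) + (u + w - 1) := by
  noncomm_ring

theorem act_sub_one_mul_apply (a b : G) (v : Additive V) :
    (act V G hGV a - 1) ((act V G hGV b - 1) v) =
      act V G hGV a (act V G hGV b v - v) - (act V G hGV b v - v) := rfl

theorem coe_act_sub (b : G) (v : Additive V) :
    (((act V G hGV b v - v).toMul : V) : Ω) = ⁅((v.toMul : V) : Ω), (b : Ω)⁆⁻¹ := by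
  rw [toMul_sub, Subgroup.coe_div, div_eq_mul_inv, act_apply, commutatorElement_def]
  group


/-- `ann` inside the rank one ideal counts fixed points. -/
theorem card_ann {e : Additive V} {L : Additive V →+ AddMonoid.End (Additive V)}
    (hLe : ∀ w, L w e = w) (hL : ∀ (x : AddMonoid.End (Additive V)) w, x * L w = L (x w))
    (A : AddSubgroup (AddMonoid.End (Additive V))) (A' : Subgroup G)
    (h1 : ∀ a ∈ A', ρ a - 1 ∈ A) (h2 : ∀ x ∈ A, ∃ a ∈ A', ρ a = 1 + x) :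
    Nat.card (ann L.range A) =
      Nat.card ↥(V ⊓ Subgroup.centralizer ((A'.map G.subtype : Subgroup Ω) : Set Ω)) := by
  have hfix : ∀ w : Additive V, (∀ x ∈ A, x w = 0) ↔
      ((w.toMul : V) : Ω) ∈ Subgroup.centralizer ((A'.map G.subtype : Subgroup Ω) : Set Ω) := by
    intro w
    rw [Subgroup.mem_centralizer_iff]
    constructor
    · rintro h _ ⟨a, ha, rfl⟩
      have h3 : ρ a w - w = 0 := h _ (h1 a ha)
      exact mul_inv_eq_iff_eq_mul.1
        (congrArg (fun u : Additive V => ((u.toMul : V) : Ω)) (sub_eq_zero.mp h3))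
    · intro h x hx
      obtain ⟨a, ha, hax⟩ := h2 x hx
      have e1 : x = ρ a - 1 := by rw [hax, add_sub_cancel_left]
      rw [e1]
      show ρ a w - w = 0
      rw [sub_eq_zero]
      apply Additive.toMul.injective
      apply Subtype.ext
      rw [act_apply, mul_inv_eq_iff_eq_mul]
      exact h _ ⟨a, ha, rfl⟩
  refine Nat.card_congr
    { toFun := fun z => ⟨(((z.1 e).toMul : V) : Ω), Subgroup.mem_inf.2 ⟨((z.1 e).toMul : V).2, ?_⟩⟩
      invFun := fun v => ⟨L (Additive.ofMul (⟨v.1, (Subgroup.mem_inf.1 v.2).1⟩ : V)), ?_⟩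
      left_inv := ?_
      right_inv := ?_ }
  · obtain ⟨w, hw⟩ := (mem_ann.mp z.2).1
    refine (hfix _).mp fun x hx => ?_
    exact DFunLike.congr_fun ((mem_ann.mp z.2).2 x hx) e
  · refine mem_ann.mpr ⟨⟨_, rfl⟩, fun x hx => ?_⟩
    rw [hL, (hfix (Additive.ofMul (⟨v.1, (Subgroup.mem_inf.1 v.2).1⟩ : V))).mpr
      (Subgroup.mem_inf.1 v.2).2 x hx, map_zero]
  · intro z
    obtain ⟨w, hw⟩ := (mem_ann.mp z.2).1
    refine Subtype.ext ?_
    show L (z.1 e) = z.1
    rw [← hw, hLe]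
  · intro v
    refine Subtype.ext ?_
    show (((L _ e).toMul : V) : Ω) = v.1
    rw [hLe]
    rfl

include hGV in
/-- The statement `S1935`. -/
theorem exists_subnormal_quadratic_offender [Finite Ω] [Fact p.Prime] (hp : 5 ≤ p)
    (hV : IsElementaryAbelian p V) (hG : IsPGroup p G)
    (hfaith : G ⊓ Subgroup.centralizer (V : Set Ω) = ⊥)
    (hF : ∃ E : Subgroup Ω, E ≤ G ∧ E ≠ ⊥ ∧ IsElementaryAbelian p E ∧
      Nat.card ↥V ≤ Nat.card ↥E * Nat.card ↥(V ⊓ Subgroup.centralizer (E : Set Ω))) :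
    ∃ A : Subgroup Ω, A ≤ G ∧ A ≠ ⊥ ∧ IsElementaryAbelian p A ∧
      Nat.card ↥V ≤ Nat.card ↥A * Nat.card ↥(V ⊓ Subgroup.centralizer (A : Set Ω)) ∧
      ⁅⁅V, A⁆, A⁆ = ⊥ ∧
      ∀ g ∈ Subgroup.closure {x : Ω | ∃ h ∈ G, ∃ a ∈ A, x = h * a * h⁻¹}, ∀ a ∈ A,
        g * a * g⁻¹ ∈ A := by
  classical
  obtain ⟨E, hEG, hEne, hEel, hEoff⟩ := hF
  -- Timmesfeld
  obtain ⟨A₀, ⟨hA₀E, hA₀ne⟩, hmax₀⟩ := ({A : Subgroup Ω | A ≤ E ∧ A ≠ ⊥}).toFinite.exists_maximalFor
    (Timmesfeld.meas V) _ ⟨E, le_rfl, hEne⟩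
  have hmax : ∀ B : Subgroup Ω, B ≤ E → B ≠ ⊥ → Timmesfeld.meas V B ≤ Timmesfeld.meas V A₀ :=
    fun B hB hne => not_lt.mp fun h => absurd (hmax₀ ⟨hB, hne⟩ h.le) (not_le.mpr h)
  have hoff₀ : Nat.card V ≤ Timmesfeld.meas V A₀ := hEoff.trans (hmax E le_rfl hEne)
  have hmax' : ∀ B ≤ A₀, Timmesfeld.meas V B ≤ Timmesfeld.meas V A₀ := by
    intro B hB
    by_cases hne : B = ⊥
    · refine le_trans ?_ hoff₀
      rw [hne, Timmesfeld.meas, Subgroup.card_bot, one_mul]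
      exact Subgroup.card_le_of_le inf_le_left
    · exact hmax B (hB.trans hA₀E) hne
  haveI := hEel.1
  have hVc : ∀ x ∈ V, ∀ y ∈ V, Commute x y := fun x hx y hy =>
    congrArg Subtype.val (mul_comm' (⟨x, hx⟩ : V) ⟨y, hy⟩)
  have hEc : ∀ x ∈ E, ∀ y ∈ E, Commute x y := fun x hx y hy =>
    congrArg Subtype.val (mul_comm' (⟨x, hx⟩ : E) ⟨y, hy⟩)
  have hab : ⁅A₀, A₀⁆ ≤ Subgroup.centralizer (V : Set Ω) := Subgroup.commutator_le.2
    fun x hx y hy => by
      rw [commutatorElement_eq_one_iff_commute.2 (hEc x (hA₀E hx) y (hA₀E hy))]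
      exact one_mem _
  have hA₀V : A₀ ≤ Subgroup.normalizer (V : Set Ω) := (hA₀E.trans hEG).trans hGV
  set A₁ := A₀ ⊓ Subgroup.centralizer ((⁅V, A₀⁆ : Subgroup Ω) : Set Ω) with hA₁
  obtain ⟨hmeas, -⟩ := Timmesfeld.replacement hVc hA₀V hab hmax' (le_refl V)
  have hVp : IsPGroup p V := fun x => ⟨1, Subtype.ext (by
    rw [pow_one, SubmonoidClass.coe_pow]; exact hV.2 _ x.2)⟩
  have hVA₀ : ⁅V, A₀⁆ ≠ ⊥ := by
    intro h
    refine hA₀ne (eq_bot_iff.mpr (hfaith ▸ le_inf (hA₀E.trans hEG) ?_))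
    rw [Subgroup.le_centralizer_iff]
    exact Subgroup.commutator_eq_bot_iff_le_centralizer.mp h
  have hne₁ : ⁅V, A₁⁆ ≠ ⊥ := Timmesfeld.commutator_ne_bot hVc hA₀V hab hVp
    (fun a ha => by rw [hEel.2 a (hA₀E ha)]; exact one_mem _) hmax' (le_refl V) hVA₀
  have hA₁G : A₁ ≤ G := inf_le_left.trans (hA₀E.trans hEG)
  -- the rank one ideal
  letI : Module (ZMod p) (Additive V) := AddCommGroup.zmodModule (n := p) (G := Additive ↥V) (fun v => act_nsmul hV v)
  obtain ⟨e₀, he₀⟩ : ∃ e : Additive V, e ≠ 0 := by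
    by_contra h
    push Not at h
    refine hne₁ (eq_bot_iff.mpr (Subgroup.commutator_le.mpr fun v hv a _ => ?_))
    have h1 : v = 1 := congrArg (fun u : Additive V => ((u.toMul : V) : Ω))
      (h (Additive.ofMul (⟨v, hv⟩ : V)))
    rw [h1, commutatorElement_one_left]
    exact one_mem _
  obtain ⟨f, hf⟩ := Module.Projective.exists_dual_ne_zero (ZMod p) he₀
  set e : Additive V := (f e₀)⁻¹ • e₀ with hedef
  have hfe : f e = 1 := by rw [hedef, map_smul, smul_eq_mul, inv_mul_cancel₀ hf]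
  let L : Additive V →+ AddMonoid.End (Additive V) :=
    { toFun := fun w => (f.smulRight w).toAddMonoidHom
      map_zero' := AddMonoidHom.ext fun v => smul_zero (f v)
      map_add' := fun a b => AddMonoidHom.ext fun v => smul_add (f v) a b }
  have hLe : ∀ w, L w e = w := fun w => by
    show f e • w = w
    rw [hfe, one_smul]
  have hL : ∀ (x : AddMonoid.End (Additive V)) w, x * L w = L (x w) := fun x w =>
    AddMonoidHom.ext fun v => by
      show x (f v • w) = f v • x w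
      exact ZMod.map_smul x (f v) w
  have hI : ∀ r : AddMonoid.End (Additive V), ∀ z ∈ L.range, r * z ∈ L.range := by
    rintro r _ ⟨w, rfl⟩
    exact ⟨r w, (hL r w).symm⟩
  haveI : Finite (AddMonoid.End (Additive V)) :=
    Finite.of_injective (fun f => (f : Additive V → Additive V)) DFunLike.coe_injective
  have hpR : (p : AddMonoid.End (Additive V)) = 0 := AddMonoidHom.ext fun v => by
    show (p : AddMonoid.End (Additive V)) v = 0
    rw [AddMonoid.End.natCast_apply]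
    exact act_nsmul hV v
  have hinj := act_injective V G hGV hfaith
  -- the initial space
  set A₁' := A₁.subgroupOf G with hA₁'
  have hzero : ∀ a ∈ A₁', ∀ b ∈ A₁', (ρ a - 1) * (ρ b - 1) = 0 := by
    intro a ha b hb
    refine AddMonoidHom.ext fun v => ?_
    show (ρ a - 1) ((ρ b - 1) v) = 0
    rw [act_sub_one_mul_apply, sub_eq_zero]
    apply Additive.toMul.injective
    apply Subtype.ext
    rw [act_apply, coe_act_sub, mul_inv_eq_iff_eq_mul]
    have hc := Subgroup.mem_centralizer_iff.mp (Subgroup.mem_subgroupOf.mp ha).2 _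
      (Subgroup.commutator_mem_commutator ((v.toMul : V).2) (Subgroup.mem_subgroupOf.mp hb).1)
    exact ((show Commute _ _ from hc).inv_left.eq).symm
  let a₁ : AddSubgroup (AddMonoid.End (Additive V)) :=
    { carrier := {x | ∃ a ∈ A₁', ρ a = 1 + x}
      zero_mem' := ⟨1, one_mem _, by rw [map_one, add_zero]⟩
      add_mem' := by
        rintro x y ⟨a, ha, hx⟩ ⟨b, hb, hy⟩
        refine ⟨a * b, mul_mem ha hb, ?_⟩
        have h := hzero a ha b hb
        rw [hx, hy, add_sub_cancel_left, add_sub_cancel_left] at h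
        rw [map_mul, hx, hy]
        noncomm_ring [h]
      neg_mem' := by
        rintro x ⟨a, ha, hx⟩
        have h := hzero a ha a ha
        rw [hx, add_sub_cancel_left] at h
        exact ⟨a⁻¹, inv_mem ha, by rw [map_inv_of_eq ρ hx h, sub_eq_add_neg]⟩ }
  have ha₁ : ∀ a ∈ A₁', ρ a - 1 ∈ a₁ := fun a ha => ⟨a, ha, (add_sub_cancel 1 (ρ a)).symm⟩
  have hgood : Good ρ L.range (Nat.card V) a₁ := by
    refine ⟨?_, ⟨?_, fun x hx => ?_⟩, ?_⟩
    · intro h
      refine hne₁ (Subgroup.commutator_eq_bot_iff_le_centralizer.mpr ?_)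
      rw [Subgroup.le_centralizer_iff]
      intro a ha
      have h1 := ha₁ ⟨a, hA₁G ha⟩ (Subgroup.mem_subgroupOf.mpr ha)
      rw [h, AddSubgroup.mem_bot, sub_eq_zero] at h1
      exact (act_eq_one_iff V G hGV _).mp h1
    · rintro x ⟨a, ha, hx⟩ y ⟨b, hb, hy⟩
      have h := hzero a ha b hb
      rwa [hx, hy, add_sub_cancel_left, add_sub_cancel_left] at h
    · obtain ⟨a, -, hx⟩ := hx
      exact ⟨a, hx⟩
    · rw [card_ann V G hGV hLe hL a₁ A₁' ha₁ fun x hx => hx,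
        Subgroup.map_subgroupOf_eq_of_le hA₁G]
      refine hoff₀.trans (hmeas.symm.le.trans (Nat.mul_le_mul_right _ ?_))
      refine Nat.card_le_card_of_injective
        (fun a => ⟨ρ ⟨a.1, hA₁G a.2⟩ - 1, ha₁ _ (Subgroup.mem_subgroupOf.mpr a.2)⟩) ?_
      intro a b h
      exact Subtype.ext (congrArg (fun g : G => (g : Ω))
        (hinj (sub_left_injective (congrArg Subtype.val h))))
  -- degeneration
  obtain ⟨M, ⟨hMne, hMQ, hMoff⟩, hMn⟩ := exists_two_subnormal ρ hpR hp hG hI ⟨a₁, hgood⟩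
  set B := grp ρ hMQ.1 with hB
  have hBex : ∀ x ∈ M, ∃ a ∈ B, ρ a = 1 + x := by
    intro x hx
    obtain ⟨a, ha⟩ := hMQ.2 x hx
    exact ⟨a, by rw [hB, mem_grp, ha, add_sub_cancel_left]; exact hx, ha⟩
  refine ⟨B.map G.subtype, Subgroup.map_subtype_le _, ?_, ⟨?_, ?_⟩, ?_, ?_, ?_⟩
  · rw [Ne, Subgroup.map_eq_bot_iff_of_injective _ G.subtype_injective]
    intro h
    refine hMne ((AddSubgroup.eq_bot_iff_forall _).mpr fun x hx => ?_)
    obtain ⟨a, ha, hax⟩ := hBex x hx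
    rw [Subgroup.mem_bot.mp (h ▸ ha : a ∈ (⊥ : Subgroup G)), map_one, left_eq_add] at hax
    exact hax
  · refine ⟨⟨fun a b => Subtype.ext ?_⟩⟩
    obtain ⟨x, hx, hxa⟩ := a.2
    obtain ⟨y, hy, hyb⟩ := b.2
    simp only [Subgroup.coe_mul, ← hxa, ← hyb, ← map_mul]
    congr 1
    refine hinj ?_
    rw [map_mul, map_mul, mul_decomp (ρ x) (ρ y), mul_decomp (ρ y) (ρ x), hMQ.1 _ hx _ hy, hMQ.1 _ hy _ hx,
      add_comm (ρ x) (ρ y)]
  · rintro _ ⟨x, hx, rfl⟩
    rw [← map_pow]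
    suffices h : x ^ p = 1 by rw [h, map_one]
    refine hinj ?_
    rw [map_pow, map_one]
    exact pow_eq_one_of_quadratic (act_nsmul hV) ρ (hMQ.1 _ hx _ hx)
  · rw [← card_ann V G hGV hLe hL M B (fun a ha => ha) hBex,
      Subgroup.card_map_of_injective G.subtype_injective]
    refine hMoff.trans (Nat.mul_le_mul_right _ ?_)
    refine Nat.card_le_card_of_injective (fun x => ⟨(hBex x.1 x.2).choose,
      (hBex x.1 x.2).choose_spec.1⟩) ?_
    intro x y h
    refine Subtype.ext ?_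
    have h1 : ρ (hBex x.1 x.2).choose = ρ (hBex y.1 y.2).choose :=
      congrArg (fun z : B => ρ (z : G)) h
    rw [(hBex x.1 x.2).choose_spec.2, (hBex y.1 y.2).choose_spec.2] at h1
    exact add_left_cancel h1
  · rw [Subgroup.commutator_eq_bot_iff_le_centralizer, Subgroup.commutator_le]
    rintro v hv _ ⟨b, hb, rfl⟩
    rw [Subgroup.mem_centralizer_iff]
    rintro _ ⟨a, ha, rfl⟩
    have h1 := DFunLike.congr_fun (hMQ.1 _ ha _ hb) (Additive.ofMul (⟨v, hv⟩ : V))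
    change (ρ a - 1) ((ρ b - 1) _) = 0 at h1
    rw [act_sub_one_mul_apply, sub_eq_zero] at h1
    have h2 := congrArg (fun u : Additive V => ((u.toMul : V) : Ω)) h1
    simp only [act_apply, coe_act_sub] at h2
    have h3 : Commute (a : Ω) (⁅v, (b : Ω)⁆⁻¹) := mul_inv_eq_iff_eq_mul.1 h2
    exact (inv_inv (⁅v, (b : Ω)⁆) ▸ h3.inv_right : Commute (a : Ω) ⁅v, (b : Ω)⁆).eq
  · intro g hg
    have hsub : Subgroup.closure {x : Ω | ∃ h ∈ G, ∃ a ∈ B.map G.subtype, x = h * a * h⁻¹} ≤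
        (Subgroup.normalizer (B : Set G)).map G.subtype := by
      rw [Subgroup.closure_le]
      rintro _ ⟨h, hh, _, ⟨a, ha, rfl⟩, rfl⟩
      exact ⟨(⟨h, hh⟩ : G) * a * (⟨h, hh⟩ : G)⁻¹, hMn hMQ.1 ⟨h, hh⟩ ⟨a, ha, rfl⟩, rfl⟩
    obtain ⟨k, hk, rfl⟩ := hsub hg
    rintro _ ⟨a, ha, rfl⟩
    exact ⟨k * a * k⁻¹, (Subgroup.mem_normalizer_iff.mp hk a).mp ha, by simp⟩

end CfsgLib.QuadOff
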